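import Groth.Agent.EGAProj74.GrT.Twisting
import Groth.Agent.EGA73.Invertible

/-!
`O(n)` is invertible when the irrelevant ideal is generated in degree one, and `O(m) ⊗ O(n) = O(m + n)`.
-/

universe u

open CategoryTheory Limits AlgebraicGeometry TopologicalSpace Opposite GrMod

noncomputable section

namespace Groth.Agent.EGAProj74.GrT

open Groth.Agent.EGA73 (nonempty_restrict_iso_unit tensIso unitHom isInvertible_restrict_opens)

variable {A σ : Type u} [CommRing A] [SetLike σ A] [AddSubgroupClass σ A] {𝒜 : ℕ → σ} [GradedRing 𝒜]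

theorem smul_unit_bijective {b : ℤ} {U : Opens (ProjectiveSpectrum.top 𝒜)} (e : TwistUnit (𝒜 := 𝒜) b U) :
    Function.Bijective (fun c : GrTwist.O (𝒜 := 𝒜) (op U) => c • e.fwd) := by
  refine ⟨fun c c' h => Subtype.ext (funext fun x => ?_), exists_smul_eq_unit e⟩
  apply HomogeneousLocalization.val_injective
  have h1 : ((c.1 x • e.fwd.1 x : GrTwist.twistAt 𝒜 b x.1) : GrTwist.Loc 𝒜 x.1) =
      ((c'.1 x • e.fwd.1 x : GrTwist.twistAt 𝒜 b x.1) : GrTwist.Loc 𝒜 x.1) :=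
    congrArg (fun q : GrTwist.sectN (𝒜 := 𝒜) b (op U) => (q.1 x).1) h
  rw [GrTwist.coe_smul_val, GrTwist.coe_smul_val] at h1
  have h2 := congrArg (· * (e.bwd.1 x).1) h1
  dsimp only at h2
  rwa [mul_assoc, mul_assoc, e.mul_eq, mul_one, mul_one] at h2

/-- A unit section trivializes `O(b)`. -/
theorem nonempty_twist_restrict_iso {b : ℤ} {U : (Proj 𝒜).Opens} (e : TwistUnit (𝒜 := 𝒜) b U) :
    Nonempty ((GrTwist.twist 𝒜 b).restrict U.ι ≅ Coh.structureModule U) :=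
  nonempty_restrict_iso_unit (GrTwist.twist 𝒜 b) U e.fwd fun _ hV => smul_unit_bijective (e.res hV)

/-- `f ^ n` as a unit section of `O(n)` on `D₊(f)` for `f` of degree one. -/
theorem exists_unit_of_generated (hgen : (HomogeneousIdeal.irrelevant 𝒜).toIdeal = Ideal.span (𝒜 1 : Set A))
    (n : ℤ) (x : ProjectiveSpectrum.top 𝒜) :
    ∃ U : Opens (ProjectiveSpectrum.top 𝒜), x ∈ U ∧ Nonempty (TwistUnit (𝒜 := 𝒜) n U) := by
  obtain ⟨g, hg, hxg⟩ : ∃ g ∈ 𝒜 1, g ∉ (x : ProjectiveSpectrum 𝒜).asHomogeneousIdeal := by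
    by_contra H
    push Not at H
    exact ProjectiveSpectrum.not_irrelevant_le x (hgen.trans_le (Ideal.span_le.mpr H))
  refine ⟨ProjectiveSpectrum.basicOpen 𝒜 g, hxg, ?_⟩
  have e := powUnit 𝒜 hg n
  rw [Nat.cast_one, mul_one] at e
  exact ⟨e⟩

variable (hgen : (HomogeneousIdeal.irrelevant 𝒜).toIdeal = Ideal.span (𝒜 1 : Set A))

include hgen in
theorem isInvertible_twist (n : ℤ) : PicF.IsInvertible (GrTwist.twist 𝒜 n) := fun x => by
  obtain ⟨U, hxU, ⟨e⟩⟩ := exists_unit_of_generated hgen n x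
  exact ⟨U, hxU, nonempty_twist_restrict_iso e⟩

include hgen in
theorem nonempty_twist_tensor_iso (m n : ℤ) :
    Nonempty (CohB1.tensorMod (GrTwist.twist 𝒜 m) (GrTwist.twist 𝒜 n) ≅ GrTwist.twist 𝒜 (m + n)) :=
  ⟨tensIso (twistIsoTilde 𝒜 m) (Iso.refl _) ≪≫ mulIso m n (exists_unit_of_generated hgen n) ≪≫
    (twistIsoTilde 𝒜 (m + n)).symm⟩

/-- `O(0) = O`. -/
theorem nonempty_twist_zero_iso : Nonempty (GrTwist.twist 𝒜 0 ≅ Coh.structureModule (Proj 𝒜)) := by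
  have e := powUnit 𝒜 (SetLike.GradedOne.one_mem (A := 𝒜)) 0
  rw [zero_mul] at e
  have htop : (⊤ : (Proj 𝒜).Opens) ≤ Proj.basicOpen 𝒜 (1 : A) := le_of_eq (Proj.basicOpen_one 𝒜).symm
  have hbij : ∀ (V : (Proj 𝒜).Opens), Function.Bijective
      ((unitHom (GrTwist.twist 𝒜 0) ((e.res htop).fwd)).app V) := fun V =>
    smul_unit_bijective ((e.res htop).res le_top)
  have : IsIso (unitHom (GrTwist.twist 𝒜 0) ((e.res htop).fwd)) := by
    rw [Scheme.Modules.Hom.isIso_iff_isIso_app]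
    exact fun V => (ConcreteCategory.isIso_iff_bijective _).mpr (hbij V)
  exact ⟨(asIso (unitHom (GrTwist.twist 𝒜 0) ((e.res htop).fwd))).symm⟩

include hgen in
theorem nonempty_twist_iso_tensorPow : ∀ n : ℕ,
    Nonempty (GrTwist.twist 𝒜 (n : ℤ) ≅ CohB1.tensorPow (GrTwist.twist 𝒜 1) n)
  | 0 => nonempty_twist_zero_iso
  | n + 1 => by
    obtain ⟨i⟩ := nonempty_twist_iso_tensorPow n
    obtain ⟨j⟩ := nonempty_twist_tensor_iso hgen (n : ℤ) 1
    exact ⟨(eqToIso (by push_cast; rfl)) ≪≫ j.symm ≪≫ tensIso i (Iso.refl _)⟩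

variable {M τ : Type u} [AddCommGroup M] [Module A M] [SetLike τ M] [AddSubgroupClass τ M] {ℳ : ℕ → τ}
  [SetLike.GradedSMul 𝒜 ℳ]

include hgen in
theorem nonempty_tilde_shift_iso (n : ℤ) :
    Nonempty (tilde 𝒜 ℳ n ≅ CohB1.tensorMod (tilde 𝒜 ℳ 0) (GrTwist.twist 𝒜 n)) :=
  ⟨(mulIso 0 n (exists_unit_of_generated hgen n) ≪≫ eqToIso (by rw [zero_add])).symm⟩

theorem isInvertible_twist_restrict (d : ℕ) (n : ℤ) :
    PicF.IsInvertible ((GrTwist.twist 𝒜 (n * d)).restrict (⨆ f : 𝒜 d, Proj.basicOpen 𝒜 (f : A)).ι) :=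
  isInvertible_restrict_opens (L := GrTwist.twist 𝒜 (n * d)) _ fun x hx => by
    obtain ⟨f, hf⟩ := Opens.mem_iSup.mp hx
    exact ⟨Proj.basicOpen 𝒜 (f : A), hf,
      nonempty_twist_restrict_iso (U := Proj.basicOpen 𝒜 (f : A)) (powUnit 𝒜 f.2 n)⟩

end Groth.Agent.EGAProj74.GrT

end
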