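import Mathlib.RingTheory.GradedAlgebra.Radical
import Mathlib.AlgebraicGeometry.ProjectiveSpectrum.Topology
import Mathlib.Algebra.GradedMulAction

/-!
Basic facts about graded rings, graded modules and the points of `Proj`.
-/

universe u

open TopologicalSpace

namespace Groth.Agent.EGAProj74.GrT

variable {A σ : Type u} [CommRing A] [SetLike σ A] [AddSubgroupClass σ A] (𝒜 : ℕ → σ) [GradedRing 𝒜]

/-- For a homogeneous ideal `I` and a homogeneous `f` of positive degree, `f ∈ rad I` as soon as every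
point of `D₊(f)` fails to contain `I`. -/
theorem mem_radical_of_forall_mem {I : Ideal A} (hI : I.IsHomogeneous 𝒜) {d : ℕ} (hd : 0 < d)
    {f : A} (hf : f ∈ 𝒜 d)
    (h : ∀ x : ProjectiveSpectrum 𝒜, I ≤ x.asHomogeneousIdeal.toIdeal → f ∈ x.asHomogeneousIdeal) :
    f ∈ I.radical := by
  rw [hI.radical_eq]
  simp only [Submodule.mem_sInf]
  rintro J ⟨hJ, hIJ, hJp⟩
  by_contra hfJ
  refine hfJ (h ⟨⟨J, hJ⟩, hJp, fun hirr => hfJ (hirr ?_)⟩ hIJ)
  exact HomogeneousIdeal.mem_irrelevant_of_mem 𝒜 hd hf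

/-- At every point of `Proj` some homogeneous element of positive degree does not vanish. -/
theorem exists_pos_notMem (x : ProjectiveSpectrum 𝒜) :
    ∃ (d : ℕ) (f : A), 0 < d ∧ f ∈ 𝒜 d ∧ f ∉ x.asHomogeneousIdeal := by
  classical
  by_contra H
  push Not at H
  refine x.not_irrelevant_le fun a ha => ?_
  refine (x.asHomogeneousIdeal.isHomogeneous.mem_iff).mpr ?_
  · intro i
    rcases Nat.eq_zero_or_pos i with rfl | hi
    · have h0 := (HomogeneousIdeal.mem_irrelevant_iff 𝒜 a).mp ha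
      rw [GradedRing.proj_apply] at h0
      rw [h0]
      exact zero_mem _
    · exact H i _ hi (SetLike.coe_mem _)

/-- Homogeneous basic opens contained in a given neighbourhood, with positive degree. -/
theorem exists_basicOpen_le {U : Opens (ProjectiveSpectrum.top 𝒜)} {x : ProjectiveSpectrum.top 𝒜}
    (hx : x ∈ U) :
    ∃ (e : ℕ) (h : A), 0 < e ∧ h ∈ 𝒜 e ∧ x ∈ ProjectiveSpectrum.basicOpen 𝒜 h ∧
      ProjectiveSpectrum.basicOpen 𝒜 h ≤ U := by
  obtain ⟨_, ⟨r, rfl⟩, hxr, hrU⟩ :=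
    (ProjectiveSpectrum.isTopologicalBasis_basic_opens 𝒜).exists_subset_of_mem_open hx U.isOpen
  replace hxr : x ∈ ProjectiveSpectrum.basicOpen 𝒜 r := hxr
  replace hrU : ProjectiveSpectrum.basicOpen 𝒜 r ≤ U := hrU
  rw [ProjectiveSpectrum.basicOpen_eq_union_of_projection] at hxr hrU
  obtain ⟨i, hi⟩ := Opens.mem_iSup.mp hxr
  obtain ⟨d, f, hd, hf, hfx⟩ := exists_pos_notMem 𝒜 x
  refine ⟨i + d, GradedRing.proj 𝒜 i r * f, by omega,
    SetLike.mul_mem_graded (SetLike.coe_mem _) hf, ?_, ?_⟩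
  · rw [ProjectiveSpectrum.basicOpen_mul]
    exact ⟨hi, hfx⟩
  · intro y hy
    rw [ProjectiveSpectrum.basicOpen_mul] at hy
    exact hrU (Opens.mem_iSup.mpr ⟨i, hy.1⟩)

variable {M τ : Type u} [AddCommGroup M] [Module A M] [SetLike τ M] [AddSubgroupClass τ M]
  (ℳ : ℕ → τ) [DirectSum.Decomposition ℳ] [SetLike.GradedSMul 𝒜 ℳ]

omit [GradedRing 𝒜] [DirectSum.Decomposition ℳ] in
theorem gsmul_mem {i j : ℕ} {a : A} (ha : a ∈ 𝒜 i) {z : M} (hz : z ∈ ℳ j) : a • z ∈ ℳ (i + j) :=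
  SetLike.GradedSMul.smul_mem ha hz

/-- If `a` kills the homogeneous element `z`, so does every component of `a`. -/
theorem decompose_smul_eq_zero {j : ℕ} {z : M} (hz : z ∈ ℳ j) {a : A} (h : a • z = 0) (i : ℕ) :
    (DirectSum.decompose 𝒜 a i : A) • z = 0 := by
  classical
  rw [← DirectSum.sum_support_decompose 𝒜 a, Finset.sum_smul] at h
  let π : M →+ M := AddMonoidHom.mk' (fun m => (DirectSum.decompose ℳ m (i + j) : M))
    (fun m m' => by simp)
  have key := congrArg π h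
  rw [map_sum, map_zero, Finset.sum_eq_single i] at key
  · have hm : π ((DirectSum.decompose 𝒜 a i : A) • z) = (DirectSum.decompose 𝒜 a i : A) • z :=
      DirectSum.decompose_of_mem_same ℳ (gsmul_mem 𝒜 ℳ (SetLike.coe_mem _) hz)
    rwa [hm] at key
  · intro b _ hbi
    exact DirectSum.decompose_of_mem_ne ℳ (gsmul_mem 𝒜 ℳ (SetLike.coe_mem _) hz) (by omega)
  · intro hi
    simp only [DFinsupp.notMem_support_iff] at hi
    rw [hi, ZeroMemClass.coe_zero, zero_smul, map_zero]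

/-- A killer of a homogeneous element outside a point may be chosen homogeneous. -/
theorem exists_homogeneous_killer {j : ℕ} {z : M} (hz : z ∈ ℳ j) (x : ProjectiveSpectrum 𝒜) {a : A}
    (ha : a ∉ x.asHomogeneousIdeal) (h : a • z = 0) :
    ∃ (i : ℕ) (c : A), c ∈ 𝒜 i ∧ c ∉ x.asHomogeneousIdeal ∧ c • z = 0 := by
  by_contra H
  push Not at H
  refine ha ((x.asHomogeneousIdeal.isHomogeneous.mem_iff).mpr fun i => ?_)
  by_contra hi
  exact H i _ (SetLike.coe_mem _) hi (decompose_smul_eq_zero 𝒜 ℳ hz h i)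

/-- A homogeneous element killed near every point of `D₊(f)` is killed by a power of `f`. -/
theorem exists_pow_smul_eq_zero {d : ℕ} (hd : 0 < d) {f : A} (hf : f ∈ 𝒜 d) {j : ℕ} {z : M}
    (hz : z ∈ ℳ j)
    (h : ∀ x : ProjectiveSpectrum 𝒜, f ∉ x.asHomogeneousIdeal → ∃ a : A, a ∉ x.asHomogeneousIdeal ∧ a • z = 0) :
    ∃ N : ℕ, f ^ N • z = 0 := by
  let I : Ideal A := LinearMap.ker (LinearMap.toSpanSingleton A M z)
  have hI : I.IsHomogeneous 𝒜 := fun i a (ha : a • z = 0) => decompose_smul_eq_zero 𝒜 ℳ hz ha i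
  obtain ⟨N, hN⟩ := mem_radical_of_forall_mem 𝒜 hI hd hf fun x hx => by
    by_contra hfx
    obtain ⟨a, ha, haz⟩ := h x hfx
    exact ha (hx haz)
  exact ⟨N, hN⟩

end Groth.Agent.EGAProj74.GrT
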