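import Groth.Agent.EGAProj74.GrT.GradedBasics
import Groth.Prelude.Def_GrMod3
import Mathlib.AlgebraicGeometry.ProjectiveSpectrum.Basic

/-!
Sections of `M(n)~` over `D₊(f)` are single fractions `m / f ^ k`.
-/

universe u

open CategoryTheory AlgebraicGeometry TopologicalSpace Opposite GrMod

noncomputable section

namespace Groth.Agent.EGAProj74.GrT

variable {A σ : Type u} [CommRing A] [SetLike σ A] [AddSubgroupClass σ A] {𝒜 : ℕ → σ} [GradedRing 𝒜]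
variable {M τ : Type u} [AddCommGroup M] [Module A M] [SetLike τ M] [AddSubgroupClass τ M] {ℳ : ℕ → τ}

/-- The fraction `m / h` in `M_x`. -/
abbrev frac (x : ProjectiveSpectrum 𝒜) (m : M) (h : A) (hx : h ∉ x.asHomogeneousIdeal) :
    LocMod 𝒜 (M := M) x :=
  LocalizedModule.mk m ⟨h, hx⟩

theorem frac_eq_iff {x : ProjectiveSpectrum 𝒜} {m m' : M} {h h' : A} {hx : h ∉ x.asHomogeneousIdeal}
    {hx' : h' ∉ x.asHomogeneousIdeal} :
    frac x m h hx = frac x m' h' hx' ↔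
      ∃ a : A, a ∉ x.asHomogeneousIdeal ∧ a • (h' • m - h • m') = 0 := by
  rw [frac, frac, LocalizedModule.mk_eq]
  constructor
  · rintro ⟨⟨a, ha⟩, e⟩
    exact ⟨a, ha, by rw [smul_sub, sub_eq_zero]; exact e⟩
  · rintro ⟨a, ha, e⟩
    exact ⟨⟨a, ha⟩, by rw [smul_sub, sub_eq_zero] at e; exact e⟩

theorem frac_eq_zero_iff {x : ProjectiveSpectrum 𝒜} {m : M} {h : A} {hx : h ∉ x.asHomogeneousIdeal} :
    frac x m h hx = 0 ↔ ∃ a : A, a ∉ x.asHomogeneousIdeal ∧ a • m = 0 := by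
  have h0 : frac x (0 : M) (1 : A) ((Ideal.ne_top_iff_one _).mp x.isPrime.ne_top) = 0 :=
    LocalizedModule.zero_mk _
  rw [← h0, frac_eq_iff]
  simp

theorem frac_congr {x : ProjectiveSpectrum 𝒜} {m m' : M} {h h' : A} {hx : h ∉ x.asHomogeneousIdeal}
    {hx' : h' ∉ x.asHomogeneousIdeal} (e : h' • m = h • m') : frac x m h hx = frac x m' h' hx' :=
  frac_eq_iff.mpr ⟨1, (Ideal.ne_top_iff_one _).mp x.isPrime.ne_top, by rw [e, sub_self, smul_zero]⟩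

theorem frac_smul_left {x : ProjectiveSpectrum 𝒜} {m : M} {h c : A} {hx : h ∉ x.asHomogeneousIdeal}
    {hx' : c * h ∉ x.asHomogeneousIdeal} : frac x (c • m) (c * h) hx' = frac x m h hx :=
  frac_congr (by rw [smul_smul, mul_comm])

theorem pow_notMem {x : ProjectiveSpectrum 𝒜} {h : A} (hx : h ∉ x.asHomogeneousIdeal) (k : ℕ) :
    h ^ k ∉ x.asHomogeneousIdeal := fun e => hx (x.isPrime.mem_of_pow_mem k e)

theorem mul_notMem {x : ProjectiveSpectrum 𝒜} {h g : A} (hx : h ∉ x.asHomogeneousIdeal)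
    (gx : g ∉ x.asHomogeneousIdeal) : h * g ∉ x.asHomogeneousIdeal :=
  fun e => (x.isPrime.mem_or_mem e).elim hx gx

theorem frac_mem_tildeAt (x : ProjectiveSpectrum 𝒜) {n : ℤ} {i j : ℕ} {m : M} (hm : m ∈ ℳ i) {h : A}
    (hh : h ∈ 𝒜 j) (hx : h ∉ x.asHomogeneousIdeal) (hij : (i : ℤ) = j + n) :
    frac x m h hx ∈ tildeAt 𝒜 ℳ n x :=
  Submodule.subset_span ⟨i, j, ⟨m, hm⟩, ⟨h, hh⟩, hx, hij, rfl⟩

variable [SetLike.GradedSMul 𝒜 ℳ]

/-- The section `m / h` of `M(n)~` over an open on which `h` does not vanish. -/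
def fracSect {n : ℤ} {U : Opens (ProjectiveSpectrum.top 𝒜)} {i j : ℕ} {m : M} (hm : m ∈ ℳ i) {h : A}
    (hh : h ∈ 𝒜 j) (hU : ∀ x : U, h ∉ x.1.asHomogeneousIdeal) (hij : (i : ℤ) = j + n) :
    sect 𝒜 ℳ n (op U) :=
  ⟨fun x => ⟨frac x.1 m h (hU x), frac_mem_tildeAt x.1 hm hh (hU x) hij⟩,
    fun x => ⟨U, x.2, 𝟙 _, i, j, ⟨m, hm⟩, ⟨h, hh⟩, hU, Or.inl hij, fun _ => rfl⟩⟩

@[simp] theorem fracSect_apply {n : ℤ} {U : Opens (ProjectiveSpectrum.top 𝒜)} {i j : ℕ} {m : M}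
    (hm : m ∈ ℳ i) {h : A} (hh : h ∈ 𝒜 j) (hU : ∀ x : U, h ∉ x.1.asHomogeneousIdeal)
    (hij : (i : ℤ) = j + n) (x : U) :
    ((fracSect hm hh hU hij).1 x).1 = frac x.1 m h (hU x) := rfl

theorem sect_ext {n : ℤ} {U : (Opens (ProjectiveSpectrum.top 𝒜))ᵒᵖ} {s t : sect 𝒜 ℳ n U}
    (h : ∀ x : U.unop, (s.1 x).1 = (t.1 x).1) : s = t :=
  Subtype.ext (funext fun x => Subtype.ext (h x))

/-- Near a point, a section is a fraction whose denominator cuts out the neighbourhood. -/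
theorem exists_local_frac {n : ℤ} {U : Opens (ProjectiveSpectrum.top 𝒜)} (s : sect 𝒜 ℳ n (op U))
    (x : U) :
    ∃ (e j : ℕ) (h : A) (m : M) (_ : 0 < e) (_ : h ∈ 𝒜 e) (_ : m ∈ ℳ j) (_ : (j : ℤ) = e + n)
      (hle : ProjectiveSpectrum.basicOpen 𝒜 h ≤ U),
      x.1 ∈ ProjectiveSpectrum.basicOpen 𝒜 h ∧
        ∀ y : ProjectiveSpectrum.basicOpen 𝒜 h, (s.1 ⟨y.1, hle y.2⟩).1 = frac y.1 m h y.2 := by
  obtain ⟨V, xV, iV, i, j, ⟨m, hm⟩, ⟨g, hg⟩, nin, hij, hs⟩ := s.2 x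
  replace hij : (i : ℤ) = j + n ∨ m = 0 := hij
  replace hs : ∀ y : V, (s.1 (iV y)).1 = frac y.1 m g (nin y) := hs
  obtain ⟨e, h, he, hh, hxh, hhV⟩ := exists_basicOpen_le 𝒜 xV
  have hnin : ∀ {y : ProjectiveSpectrum.top 𝒜}, h ∉ y.asHomogeneousIdeal → ∀ K : ℕ,
      h ^ (K + 1) * g ∉ y.asHomogeneousIdeal := fun hy K =>
    mul_notMem (pow_notMem hy _) (nin ⟨_, hhV hy⟩)
  have hopen : ∀ K : ℕ, ProjectiveSpectrum.basicOpen 𝒜 (h ^ (K + 1) * g) ≤ U := fun K y hy => by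
    rw [ProjectiveSpectrum.basicOpen_mul, ProjectiveSpectrum.basicOpen_pow _ _ _ K.succ_pos] at hy
    exact iV.le (hhV hy.1)
  obtain ⟨K, hK⟩ : ∃ K : ℕ, 0 ≤ (((K + 1) * e + j : ℕ) : ℤ) + n :=
    ⟨n.natAbs, by
      have h1 : n.natAbs + 1 ≤ (n.natAbs + 1) * e + j :=
        le_add_right (Nat.le_mul_of_pos_right _ he)
      omega⟩
  have hdeg : h ^ (K + 1) * g ∈ 𝒜 ((K + 1) * e + j) := by
    refine SetLike.mul_mem_graded ?_ hg
    simpa using SetLike.pow_mem_graded (K + 1) hh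
  refine ⟨(K + 1) * e + j, ((((K + 1) * e + j : ℕ) : ℤ) + n).toNat, h ^ (K + 1) * g, h ^ (K + 1) • m,
    by positivity, hdeg, ?_, by omega, hopen K, ?_, fun y => ?_⟩
  · rcases hij with hij | hij
    · have : ((((K + 1) * e + j : ℕ) : ℤ) + n).toNat = (K + 1) * e + i := by omega
      rw [this]
      refine gsmul_mem 𝒜 ℳ ?_ hm
      simpa using SetLike.pow_mem_graded (K + 1) hh
    · rw [hij, smul_zero]
      exact zero_mem _
  · exact hnin hxh K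
  · have hy : h ∉ y.1.asHomogeneousIdeal := fun hc =>
      y.2 (Ideal.mul_mem_right _ _ (Ideal.pow_mem_of_mem _ hc _ K.succ_pos))
    exact (hs ⟨y.1, hhV hy⟩).trans frac_smul_left.symm

variable [DirectSum.Decomposition ℳ]

/-- If `m / h` vanishes on `D₊(f)` then a power of `f` kills `m`. -/
theorem exists_pow_smul_eq_zero_of_frac {d : ℕ} (hd : 0 < d) {f : A} (hf : f ∈ 𝒜 d) {i : ℕ} {m : M}
    (hm : m ∈ ℳ i) {h : A} (hU : ∀ x : ProjectiveSpectrum.basicOpen 𝒜 f, h ∉ x.1.asHomogeneousIdeal)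
    (hz : ∀ x : ProjectiveSpectrum.basicOpen 𝒜 f, frac x.1 m h (hU x) = 0) :
    ∃ N : ℕ, f ^ N • m = 0 :=
  exists_pow_smul_eq_zero 𝒜 ℳ hd hf hm fun x hx => frac_eq_zero_iff.mp (hz ⟨x, hx⟩)

theorem exists_frac_eq {n : ℤ} {d : ℕ} (hd : 0 < d) {f : A} (hf : f ∈ 𝒜 d)
    (s : sect 𝒜 ℳ n (op (ProjectiveSpectrum.basicOpen 𝒜 f))) :
    ∃ (k i : ℕ) (m : M), m ∈ ℳ i ∧ (i : ℤ) = k * d + n ∧
      ∀ x : ProjectiveSpectrum.basicOpen 𝒜 f, (s.1 x).1 = frac x.1 m (f ^ k) (pow_notMem x.2 k) := by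
  classical
  choose e j h m he hh hm hj hle hmem hs using exists_local_frac s
  -- finitely many charts suffice
  have hcpt : IsCompact (SetLike.coe (ProjectiveSpectrum.basicOpen 𝒜 f)) :=
    (Proj.isAffineOpen_basicOpen 𝒜 f hf hd).isCompact
  obtain ⟨t, ht⟩ := hcpt.elim_finite_subcover
    (fun x => SetLike.coe (ProjectiveSpectrum.basicOpen 𝒜 (h x)))
    (fun x => (ProjectiveSpectrum.basicOpen 𝒜 (h x)).isOpen)
    (fun x hx => Set.mem_iUnion.mpr ⟨⟨x, hx⟩, hmem ⟨x, hx⟩⟩)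
  -- uniform exponent for the overlaps
  have hN : ∀ p q : t, ∃ N : ℕ, (h p.1 * h q.1) ^ N • (h q.1 • m p.1 - h p.1 • m q.1) = 0 := fun p q => by
    have hdeg : h q.1 • m p.1 - h p.1 • m q.1 ∈ ℳ (e q.1 + j p.1) := by
      refine sub_mem (gsmul_mem 𝒜 ℳ (hh _) (hm _)) ?_
      have : e q.1 + j p.1 = e p.1 + j q.1 := by have := hj p.1; have := hj q.1; omega
      rw [this]
      exact gsmul_mem 𝒜 ℳ (hh _) (hm _)
    refine exists_pow_smul_eq_zero 𝒜 ℳ (Nat.add_pos_left (he p.1) (e q.1))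
      (SetLike.mul_mem_graded (hh _) (hh _)) hdeg fun x hx => ?_
    have hp : h p.1 ∉ x.asHomogeneousIdeal := fun e => hx (Ideal.mul_mem_right _ _ e)
    have hq : h q.1 ∉ x.asHomogeneousIdeal := fun e => hx (Ideal.mul_mem_left _ _ e)
    exact frac_eq_iff.mp ((hs p.1 ⟨x, hp⟩).symm.trans (hs q.1 ⟨x, hq⟩))
  choose Nf hNf using hN
  obtain ⟨N, hNle⟩ : ∃ N, ∀ p q : t, Nf p q ≤ N :=
    ⟨Finset.univ.sup fun pq : t × t => Nf pq.1 pq.2,
      fun p q => Finset.le_sup (f := fun pq : t × t => Nf pq.1 pq.2) (Finset.mem_univ (p, q))⟩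
  have hNN : ∀ p q : t, (h p.1 * h q.1) ^ N • (h q.1 • m p.1 - h p.1 • m q.1) = 0 := fun p q => by
    rw [← Nat.sub_add_cancel (hNle p q), pow_add, mul_smul, hNf, smul_zero]
  let H : t → A := fun p => h p.1 ^ (N + 1)
  let E : t → ℕ := fun p => (N + 1) * e p.1
  let m' : t → M := fun p => h p.1 ^ N • m p.1
  have hH : ∀ p, H p ∈ 𝒜 (E p) := fun p => by simpa [H, E] using SetLike.pow_mem_graded (N + 1) (hh p.1)
  have hcompat : ∀ p q, H q • m' p = H p • m' q := fun p q => by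
    have := hNN p q
    rw [smul_sub, sub_eq_zero, smul_smul, smul_smul, mul_pow] at this
    simp only [H, m', smul_smul]
    convert this using 2 <;> ring
  -- the `H p` generate a homogeneous ideal whose radical contains `f`
  have hhom : (Ideal.span (Set.range H)).IsHomogeneous 𝒜 := by
    refine Ideal.homogeneous_span 𝒜 _ ?_
    rintro _ ⟨p, rfl⟩
    exact ⟨_, hH p⟩
  obtain ⟨K₀, hK₀⟩ := mem_radical_of_forall_mem 𝒜 hhom hd hf fun x hx => by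
    by_contra hfx
    obtain ⟨p, hp⟩ := Set.mem_iUnion.mp (ht hfx)
    obtain ⟨hpt, hxp⟩ := Set.mem_iUnion.mp hp
    exact pow_notMem (hxp : h p ∉ x.asHomogeneousIdeal) (N + 1)
      (hx (Ideal.subset_span ⟨⟨p, hpt⟩, rfl⟩))
  -- enlarge the exponent
  let K := K₀ + n.natAbs
  have hK : f ^ K ∈ Ideal.span (Set.range H) := by
    rw [pow_add]
    exact Ideal.mul_mem_right _ _ hK₀
  obtain ⟨a, ha⟩ := (Ideal.mem_span_range_iff_exists_fun).mp hK
  let b : t → A := fun p => if E p ≤ K * d then (DirectSum.decompose 𝒜 (a p) (K * d - E p) : A) else 0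
  have hb : ∑ p, b p * H p = f ^ K := by
    have hfK : f ^ K ∈ 𝒜 (K * d) := by simpa using SetLike.pow_mem_graded K hf
    conv_rhs => rw [← DirectSum.decompose_of_mem_same 𝒜 hfK, ← ha]
    rw [DirectSum.decompose_sum, DFinsupp.finsetSum_apply, AddSubmonoidClass.coe_finsetSum]
    refine Finset.sum_congr rfl fun p _ => ?_
    rw [DirectSum.coe_decompose_mul_of_right_mem 𝒜 _ (hH p)]
    by_cases hp : E p ≤ K * d <;> simp [b, hp]
  obtain ⟨i₀, hi₀⟩ : ∃ i₀ : ℕ, (i₀ : ℤ) = K * d + n := by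
    refine ⟨((K : ℤ) * d + n).toNat, Int.toNat_of_nonneg ?_⟩
    have h1 : n.natAbs ≤ K * d := (Nat.le_add_left _ _).trans (Nat.le_mul_of_pos_right _ hd)
    have h2 : (n.natAbs : ℤ) ≤ (K : ℤ) * d := by exact_mod_cast h1
    have h3 : -n ≤ (n.natAbs : ℤ) := by omega
    linarith
  refine ⟨K, i₀, ∑ p, b p • m' p, ?_, hi₀, fun x => ?_⟩
  · refine sum_mem fun p _ => ?_
    by_cases hp : E p ≤ K * d
    · have hdeg : i₀ = (K * d - E p) + (N * e p.1 + j p.1) := by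
        have h1 := hj p.1
        have h2 : E p = N * e p.1 + e p.1 := by simp [E, Nat.succ_mul]
        have h3 : ((K * d : ℕ) : ℤ) = (K : ℤ) * d := by push_cast; ring
        omega
      rw [hdeg]
      refine gsmul_mem 𝒜 ℳ ?_ (gsmul_mem 𝒜 ℳ ?_ (hm _))
      · simp [b, hp]
      · simpa using SetLike.pow_mem_graded N (hh p.1)
    · simp [b, hp]
  · obtain ⟨p, hp⟩ := Set.mem_iUnion.mp (ht x.2)
    obtain ⟨hpt, hxp⟩ := Set.mem_iUnion.mp hp
    replace hxp : h p ∉ x.1.asHomogeneousIdeal := hxp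
    refine ((hs p ⟨x.1, hxp⟩).trans (frac_smul_left (c := h p ^ N)
      (hx' := mul_notMem (pow_notMem hxp N) hxp)).symm).trans (frac_congr ?_)
    calc f ^ K • h p ^ N • m p = (∑ q, b q * H q) • m' ⟨p, hpt⟩ := by rw [hb]
      _ = ∑ q, b q • H q • m' ⟨p, hpt⟩ := by simp [Finset.sum_smul, mul_smul]
      _ = ∑ q, b q • H ⟨p, hpt⟩ • m' q := Finset.sum_congr rfl fun q _ => by rw [hcompat]
      _ = (h p ^ N * h p) • ∑ q, b q • m' q := by
        rw [Finset.smul_sum, ← pow_succ]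
        exact Finset.sum_congr rfl fun q _ => smul_comm _ _ _

end Groth.Agent.EGAProj74.GrT

end
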