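import Groth.Agent.EGAProj74.GrT.TildeQCoh
import Groth.Agent.EGA73.Tensor

/-!
Multiplication `M(a)~ ⊗ O(b) → M(a + b)~` and the local generators of `O(n d)` on `D₊(f)`, `f ∈ A_d`.
-/

universe u

open CategoryTheory Limits AlgebraicGeometry TopologicalSpace Opposite GrMod MonoidalCategory

noncomputable section

namespace Groth.Agent.EGAProj74.GrT

open Groth.Agent.EGA73 (isQuasicoherent_of_affine_cover isQuasicoherent_restrict_fromSpec)

variable {A σ : Type u} [CommRing A] [SetLike σ A] [AddSubgroupClass σ A] {𝒜 : ℕ → σ} [GradedRing 𝒜]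
variable {M τ : Type u} [AddCommGroup M] [Module A M] [SetLike τ M] [AddSubgroupClass τ M] {ℳ : ℕ → τ}

theorem twist_mul_mem [SetLike.GradedSMul 𝒜 ℳ] {a b : ℤ} {x : ProjectiveSpectrum 𝒜}
    {q : LocMod 𝒜 (M := M) x} (hq : q ∈ tildeAt 𝒜 ℳ a x) {t : GrTwist.Loc 𝒜 x}
    (ht : t ∈ GrTwist.twistAt 𝒜 b x) : t • q ∈ tildeAt 𝒜 ℳ (a + b) x := by
  induction hq using Submodule.span_induction with
  | zero => rw [smul_zero]; exact zero_mem _
  | add q q' _ _ h h' => rw [smul_add]; exact add_mem h h'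
  | smul c q _ h =>
    rw [a0_smul_def, smul_comm, ← a0_smul_def]
    exact Submodule.smul_mem _ c h
  | mem q hq =>
    obtain ⟨i, j, m, g, hg, hij, rfl⟩ := hq
    induction ht using Submodule.span_induction with
    | zero => rw [zero_smul]; exact zero_mem _
    | add t t' _ _ h h' => rw [add_smul]; exact add_mem h h'
    | smul c t _ h =>
      rw [Algebra.smul_def, HomogeneousLocalization.algebraMap_apply, mul_smul, ← a0_smul_def]
      exact Submodule.smul_mem _ c h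
    | mem t ht =>
      obtain ⟨i', j', r, s, hs, hij', rfl⟩ := ht
      rw [show LocalizedModule.mk m.1 (⟨g.1, hg⟩ : x.asHomogeneousIdeal.toIdeal.primeCompl) = frac x m.1 g.1 hg from rfl,
        show Localization.mk r.1 (⟨s.1, hs⟩ : x.asHomogeneousIdeal.toIdeal.primeCompl) • frac x m.1 g.1 hg =
          frac x (r.1 • m.1) (s.1 * g.1) (mul_notMem hs hg) from LocalizedModule.mk_smul_mk _ _ _ _]
      exact frac_mem_tildeAt x (gsmul_mem 𝒜 ℳ r.2 m.2) (SetLike.mul_mem_graded s.2 g.2) _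
        (by push_cast; omega)

variable [SetLike.GradedSMul 𝒜 ℳ]

/-- The pointwise product of a section of `O(b)` and a section of `M(a)~`. -/
def twistMul {a b : ℤ} {U : (Opens (ProjectiveSpectrum.top 𝒜))ᵒᵖ} (t : GrTwist.sectN (𝒜 := 𝒜) b U)
    (s : sect 𝒜 ℳ a U) : sect 𝒜 ℳ (a + b) U :=
  ⟨fun x => ⟨(t.1 x).1 • (s.1 x).1, twist_mul_mem (x := x.1) (s.1 x).2 (t.1 x).2⟩, fun x => by
    obtain ⟨V, xV, iV, i, j, ⟨m, hm⟩, ⟨g, hg⟩, nin, hij, hs⟩ := s.2 x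
    obtain ⟨W, xW, iW, i', j', ⟨r, hr⟩, ⟨h, hh⟩, nin', hij', ht⟩ := t.2 x
    replace hij : (i : ℤ) = j + a ∨ m = 0 := hij
    replace hij' : (i' : ℤ) = j' + b ∨ r = 0 := hij'
    refine ⟨V ⊓ W, ⟨xV, xW⟩, Opens.infLELeft _ _ ≫ iV, i' + i, j' + j, ⟨r • m, gsmul_mem 𝒜 ℳ hr hm⟩,
      ⟨h * g, SetLike.mul_mem_graded hh hg⟩, fun y => mul_notMem (nin' ⟨y.1, y.2.2⟩) (nin ⟨y.1, y.2.1⟩),
      ?_, fun y => ?_⟩
    · rcases hij with hij | hij
      · rcases hij' with hij' | hij'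
        · exact Or.inl (by push_cast; omega)
        · exact Or.inr (show r • m = 0 by rw [hij', zero_smul])
      · exact Or.inr (show r • m = 0 by rw [hij, smul_zero])
    · exact (congrArg₂ (fun (p : GrTwist.Loc 𝒜 y.1) (q : LocMod 𝒜 (M := M) y.1) => p • q)
        (ht ⟨y.1, y.2.2⟩) (hs ⟨y.1, y.2.1⟩)).trans (LocalizedModule.mk_smul_mk _ _ _ _)⟩

@[simp] theorem twistMul_apply {a b : ℤ} {U : (Opens (ProjectiveSpectrum.top 𝒜))ᵒᵖ}
    (t : GrTwist.sectN (𝒜 := 𝒜) b U) (s : sect 𝒜 ℳ a U) (x : U.unop) :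
    ((twistMul t s).1 x).1 = (t.1 x).1 • (s.1 x).1 := rfl

variable (𝒜 ℳ) in
/-- `M(a)~ ⊗ O(b) → M(a + b)~` on presheaves, section by section. -/
def mulApp (a b : ℤ) (U : (Opens (ProjectiveSpectrum.top 𝒜))ᵒᵖ) :
    (CohB1.tensorPre (tilde 𝒜 ℳ a) (GrTwist.twist 𝒜 b)).obj U ⟶ (CohB1.toPMod (tilde 𝒜 ℳ (a + b))).obj U :=
  ModuleCat.MonoidalCategory.tensorLift
    (fun s t => (twistMul (t : GrTwist.sectN (𝒜 := 𝒜) b U) (s : sect 𝒜 ℳ a U) :))
    (fun _ _ _ => sect_ext fun _ => smul_add _ _ _)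
    (fun c s t => sect_ext fun x =>
      smul_comm ((t : GrTwist.sectN (𝒜 := 𝒜) b U).1 x).1 ((c : GrTwist.O (𝒜 := 𝒜) U).1 x).val
        ((s : sect 𝒜 ℳ a U).1 x).1)
    (fun _ _ _ => sect_ext fun _ => add_smul _ _ _)
    (fun c s t => sect_ext fun x =>
      (congrArg (· • ((s : sect 𝒜 ℳ a U).1 x).1)
        (GrTwist.coe_smul_val b x.1 ((c : GrTwist.O (𝒜 := 𝒜) U).1 x) ((t : GrTwist.sectN (𝒜 := 𝒜) b U).1 x))).trans
          (mul_smul _ _ _))

theorem mulApp_tp (a b : ℤ) (U : (Opens (ProjectiveSpectrum.top 𝒜))ᵒᵖ) (s : sect 𝒜 ℳ a U)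
    (t : GrTwist.sectN (𝒜 := 𝒜) b U) :
    mulApp 𝒜 ℳ a b U (Mod48.tp (O := (Proj 𝒜).sheaf) (M := CohB1.toPMod (tilde 𝒜 ℳ a))
      (N := CohB1.toPMod (GrTwist.twist 𝒜 b)) (X := U) s t) = twistMul t s :=
  rfl

variable (𝒜 ℳ) in
/-- `M(a)~ ⊗ O(b) → M(a + b)~` on presheaves. -/
def mulPre (a b : ℤ) :
    CohB1.tensorPre (tilde 𝒜 ℳ a) (GrTwist.twist 𝒜 b) ⟶ CohB1.toPMod (tilde 𝒜 ℳ (a + b)) where
  app U := mulApp 𝒜 ℳ a b U
  naturality _ := ModuleCat.MonoidalCategory.tensor_ext (fun _ _ => rfl)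

/-- A section of `O(b)` invertible on an open `U`, with its inverse. -/
structure TwistUnit (b : ℤ) (U : Opens (ProjectiveSpectrum.top 𝒜)) where
  /-- the section -/
  fwd : GrTwist.sectN (𝒜 := 𝒜) b (op U)
  /-- its inverse -/
  bwd : GrTwist.sectN (𝒜 := 𝒜) (-b) (op U)
  mul_eq : ∀ x : U, (fwd.1 x).1 * (bwd.1 x).1 = 1

/-- Restriction of a unit section to a smaller open. -/
def TwistUnit.res {b : ℤ} {U V : Opens (ProjectiveSpectrum.top 𝒜)} (e : TwistUnit (𝒜 := 𝒜) b U) (h : V ≤ U) :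
    TwistUnit (𝒜 := 𝒜) b V :=
  ⟨GrTwist.resN b (homOfLE h).op e.fwd, GrTwist.resN (-b) (homOfLE h).op e.bwd, fun x => e.mul_eq ⟨x.1, h x.2⟩⟩

/-- Transport of sections along an equality of degrees. -/
def castTwist {b b' : ℤ} (h : b = b') {U : (Opens (ProjectiveSpectrum.top 𝒜))ᵒᵖ}
    (t : GrTwist.sectN (𝒜 := 𝒜) b U) : GrTwist.sectN (𝒜 := 𝒜) b' U := h ▸ t

@[simp] theorem castTwist_apply {b b' : ℤ} (h : b = b') {U : (Opens (ProjectiveSpectrum.top 𝒜))ᵒᵖ}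
    (t : GrTwist.sectN (𝒜 := 𝒜) b U) (x : U.unop) : ((castTwist h t).1 x).1 = (t.1 x).1 := by
  subst h; rfl

/-- Transport of sections along an equality of degrees. -/
def castSect {a a' : ℤ} (h : a = a') {U : (Opens (ProjectiveSpectrum.top 𝒜))ᵒᵖ}
    (t : sect 𝒜 ℳ a U) : sect 𝒜 ℳ a' U := h ▸ t

@[simp] theorem castSect_apply {a a' : ℤ} (h : a = a') {U : (Opens (ProjectiveSpectrum.top 𝒜))ᵒᵖ}
    (t : sect 𝒜 ℳ a U) (x : U.unop) : ((castSect h t).1 x).1 = (t.1 x).1 := by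
  subst h; rfl

/-- The inverse unit section. -/
def TwistUnit.swap {b : ℤ} {U : Opens (ProjectiveSpectrum.top 𝒜)} (e : TwistUnit (𝒜 := 𝒜) b U) :
    TwistUnit (𝒜 := 𝒜) (-b) U where
  fwd := e.bwd
  bwd := castTwist (neg_neg b).symm e.fwd
  mul_eq x := by
    rw [castTwist_apply, mul_comm]
    exact e.mul_eq x

/-- Multiplication by a unit section is bijective on sections. -/
theorem twistMul_unit_bijective {a b : ℤ} {U : Opens (ProjectiveSpectrum.top 𝒜)}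
    (e : TwistUnit (𝒜 := 𝒜) b U) :
    Function.Bijective (fun s : sect 𝒜 ℳ a (op U) => twistMul e.fwd s) := by
  constructor
  · intro s s' h
    refine sect_ext fun x => ?_
    have := congrArg (fun q : sect 𝒜 ℳ (a + b) (op U) => (e.bwd.1 x).1 • (q.1 x).1) h
    simpa [smul_smul, mul_comm, e.mul_eq x] using this
  · intro q
    refine ⟨castSect (by ring) (twistMul e.bwd q), sect_ext fun x => ?_⟩
    show (e.fwd.1 x).1 • ((castSect _ (twistMul e.bwd q)).1 x).1 = (q.1 x).1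
    rw [castSect_apply, twistMul_apply, smul_smul, e.mul_eq, one_smul]

/-- A section of `O(b)` is a function times the unit section. -/
theorem exists_smul_eq_unit {b : ℤ} {U : Opens (ProjectiveSpectrum.top 𝒜)} (e : TwistUnit (𝒜 := 𝒜) b U)
    (t : GrTwist.sectN (𝒜 := 𝒜) b (op U)) : ∃ c : GrTwist.O (𝒜 := 𝒜) (op U), c • e.fwd = t := by
  have hval : ∀ (x : U) (q : GrTwist.Loc 𝒜 x.1), q ∈ GrTwist.twistAt 𝒜 0 x.1 → ∃ c : GrTwist.A0 𝒜 x.1, c.val = q := by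
    intro x q hq
    induction hq using Submodule.span_induction with
    | zero => exact ⟨0, HomogeneousLocalization.val_zero⟩
    | add q q' _ _ h h' =>
      obtain ⟨c, hc⟩ := h
      obtain ⟨c', hc'⟩ := h'
      exact ⟨c + c', by rw [HomogeneousLocalization.val_add, hc, hc']⟩
    | smul d q _ h =>
      obtain ⟨c, hc⟩ := h
      exact ⟨d * c, by rw [HomogeneousLocalization.val_mul, hc, Algebra.smul_def,
        HomogeneousLocalization.algebraMap_apply]⟩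
    | mem q hq =>
      obtain ⟨i, j, r, g, hg, hij, rfl⟩ := hq
      exact ⟨HomogeneousLocalization.mk ⟨j, ⟨r.1, (by omega : i = j) ▸ r.2⟩, g, hg⟩,
        HomogeneousLocalization.val_mk _⟩
  let p : sect 𝒜 𝒜 (b + -b) (op U) := twistMul e.bwd (toTildeFun b (op U) t)
  have hp : ∀ x : U, ∃ c : GrTwist.A0 𝒜 x.1, c.val = (e.bwd.1 x).1 * (t.1 x).1 := fun x =>
    hval x _ ((twistAt_eq_tildeAt 𝒜 0 x.1 _).mpr (add_neg_cancel b ▸ (p.1 x).2))
  choose c hc using hp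
  refine ⟨⟨c, fun x => ?_⟩, ?_⟩
  · obtain ⟨V, xV, iV, i, j, ⟨r, hr⟩, ⟨g, hg⟩, nin, hij, w⟩ := p.2 x
    replace hij : (i : ℤ) = j + (b + -b) ∨ r = 0 := hij
    have hr' : r ∈ 𝒜 j := by
      rcases hij with hij | hij
      · exact (by omega : i = j) ▸ hr
      · exact hij ▸ zero_mem _
    exact ⟨V, xV, iV, j, ⟨r, hr'⟩, ⟨g, hg⟩, nin, fun y => HomogeneousLocalization.val_injective _
      ((hc (iV y)).trans (w y))⟩
  · refine Subtype.ext (funext fun x => Subtype.ext ?_)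
    show ((c x • e.fwd.1 x : GrTwist.twistAt 𝒜 b x.1) : GrTwist.Loc 𝒜 x.1) = _
    rw [GrTwist.coe_smul_val, hc, mul_comm (e.bwd.1 x).1, mul_assoc, mul_comm (e.bwd.1 x).1, e.mul_eq, mul_one]

/-- On opens carrying a unit section, multiplication is bijective. -/
theorem mulApp_bijective {a b : ℤ} {U : Opens (ProjectiveSpectrum.top 𝒜)} (e : TwistUnit (𝒜 := 𝒜) b U) :
    Function.Bijective (mulApp 𝒜 ℳ a b (op U)) := by
  let T := fun (s : sect 𝒜 ℳ a (op U)) => Mod48.tp (O := (Proj 𝒜).sheaf) (M := CohB1.toPMod (tilde 𝒜 ℳ a))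
    (N := CohB1.toPMod (GrTwist.twist 𝒜 b)) (X := op U) s e.fwd
  have hT : Function.Surjective T := by
    intro z
    induction z using TensorProduct.induction_on with
    | zero => exact ⟨0, TensorProduct.zero_tmul _ _⟩
    | tmul s t =>
      obtain ⟨c, rfl⟩ := exists_smul_eq_unit e (t : GrTwist.sectN (𝒜 := 𝒜) b (op U))
      let s₀ : sect 𝒜 ℳ a (op U) := s
      exact ⟨c • s₀,
        (Mod48.tp_smul_left (O := (Proj 𝒜).sheaf) (M := CohB1.toPMod (tilde 𝒜 ℳ a))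
          (N := CohB1.toPMod (GrTwist.twist 𝒜 b)) (X := op U) c s e.fwd).trans
        (Mod48.tp_smul_right (O := (Proj 𝒜).sheaf) (M := CohB1.toPMod (tilde 𝒜 ℳ a))
          (N := CohB1.toPMod (GrTwist.twist 𝒜 b)) (X := op U) c s e.fwd).symm⟩
    | add z z' h h' =>
      obtain ⟨s, rfl⟩ := h
      obtain ⟨s', rfl⟩ := h'
      exact ⟨s + s', Mod48.tp_add_left (O := (Proj 𝒜).sheaf) _ _ _⟩
  have hbij : Function.Bijective ((mulApp 𝒜 ℳ a b (op U)) ∘ T) := twistMul_unit_bijective e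
  refine (Function.Bijective.of_comp_iff _ ⟨fun s s' h => (twistMul_unit_bijective e).1 ?_, hT⟩).mp hbij
  exact ((mulApp_tp a b (op U) s e.fwd).symm.trans (congrArg (mulApp 𝒜 ℳ a b (op U)) h)).trans
    (mulApp_tp a b (op U) s' e.fwd)

variable (𝒜) in
/-- `f ^ n` as a unit section of `O(n d)` on `D₊(f)`. -/
def powUnit {d : ℕ} {f : A} (hf : f ∈ 𝒜 d) (n : ℤ) :
    TwistUnit (𝒜 := 𝒜) (n * d) (ProjectiveSpectrum.basicOpen 𝒜 f) where
  fwd := ofTildeFun _ _ (fracSect (i := n.toNat * d) (j := (-n).toNat * d) (SetLike.pow_mem_graded n.toNat hf)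
    (SetLike.pow_mem_graded (-n).toNat hf) (fun x => pow_notMem x.2 _) (by
      obtain ⟨k, rfl | rfl⟩ := n.eq_nat_or_neg <;> simp))
  bwd := ofTildeFun _ _ (fracSect (i := (-n).toNat * d) (j := n.toNat * d) (SetLike.pow_mem_graded (-n).toNat hf)
    (SetLike.pow_mem_graded n.toNat hf) (fun x => pow_notMem x.2 _) (by
      obtain ⟨k, rfl | rfl⟩ := n.eq_nat_or_neg <;> simp))
  mul_eq x := by
    show Localization.mk _ _ * Localization.mk _ _ = 1
    rw [Localization.mk_mul, ← Localization.mk_self (1 : x.1.asHomogeneousIdeal.toIdeal.primeCompl),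
      Localization.mk_eq_mk_iff, Localization.r_iff_exists]
    exact ⟨1, by simp [mul_comm]⟩

/-- If every point has a neighbourhood with a unit section of `O(b)`, then `M(a)~ ⊗ O(b) ≅ M(a + b)~`. -/
def mulIso (a b : ℤ) (hcov : ∀ x : ProjectiveSpectrum.top 𝒜, ∃ U : Opens (ProjectiveSpectrum.top 𝒜),
      x ∈ U ∧ Nonempty (TwistUnit (𝒜 := 𝒜) b U)) :
    CohB1.tensorMod (tilde 𝒜 ℳ a) (GrTwist.twist 𝒜 b) ≅ tilde 𝒜 ℳ (a + b) :=
  have hbij : ∀ (W : Opens (ProjectiveSpectrum.top 𝒜)) (x : ProjectiveSpectrum.top 𝒜), x ∈ W →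
      ∃ V ≤ W, x ∈ V ∧ Function.Bijective (mulApp 𝒜 ℳ a b (op V)) := fun W x hx => by
    obtain ⟨U, hxU, ⟨e⟩⟩ := hcov x
    exact ⟨W ⊓ U, inf_le_left, ⟨hx, hxU⟩, mulApp_bijective (e.res inf_le_right)⟩
  have hψ : IsIso ((Mod48.shf (O := (Proj 𝒜).sheaf)).map
      (show CohB1.tensorPre (tilde 𝒜 ℳ a) (GrTwist.twist 𝒜 b) ⟶
        Mod48.pre (O := (Proj 𝒜).sheaf) (tilde 𝒜 ℳ (a + b)) from mulPre 𝒜 ℳ a b)) := by
    rw [Mod48.isIso_shf_map_iff_isLocalIso]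
    refine ⟨⟨fun {W} s t hst => ?_⟩, ⟨fun {W} s => ?_⟩⟩
    · intro x hx
      obtain ⟨V, hVW, hxV, hV⟩ := hbij W.unop x hx
      refine ⟨V, homOfLE hVW, ?_, hxV⟩
      refine hV.1 (?_ : mulApp 𝒜 ℳ a b (op V) _ = mulApp 𝒜 ℳ a b (op V) _)
      exact (PresheafOfModules.naturality_apply (mulPre 𝒜 ℳ a b) (homOfLE hVW).op s).trans
        ((congrArg _ hst).trans (PresheafOfModules.naturality_apply (mulPre 𝒜 ℳ a b) (homOfLE hVW).op t).symm)
    · intro x hx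
      obtain ⟨V, hVW, hxV, hV⟩ := hbij W x hx
      exact ⟨V, homOfLE hVW, hV.2 _, hxV⟩
  @asIso _ _ _ _ _ hψ ≪≫ (Mod48.shfCounitIso (O := (Proj 𝒜).sheaf)).app _

end Groth.Agent.EGAProj74.GrT

end
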